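import Mathlib

/-!
Lower bound for the degree of a representation in characteristic different from `p`: if an abelian subgroup `A` of
exponent `p` does not act trivially and, for every character of `A` that is non-trivial at a given set, a family of
`N` normalising elements gives `N` distinct conjugate characters, then the degree is at least `N`.
-/

namespace CfsgLib.CrossChar

open Matrix

variable {L : Type*} [Field L] {d : ℕ}

theorem linearIndependent_of_distinct_eigen {ι A : Type*} [Fintype ι]
    (M : A → Matrix (Fin d) (Fin d) L) (χ : ι → A → L) (v : ι → Fin d → L)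
    (hv : ∀ i, v i ≠ 0) (heig : ∀ i a, M a *ᵥ v i = χ i a • v i) (hinj : Function.Injective χ) :
    LinearIndependent L v := by
  classical
  suffices h : ∀ (s : Finset ι) (c : ι → L), ∑ i ∈ s, c i • v i = 0 → ∀ i ∈ s, c i = 0 by
    rw [Fintype.linearIndependent_iff]
    exact fun c hc i => h Finset.univ c hc i (Finset.mem_univ i)
  intro s
  induction s using Finset.induction_on with
  | empty => simp
  | insert j s hj ih =>
    intro c hc
    have hs : ∀ i ∈ s, c i = 0 := by
      intro i hi
      have hij : i ≠ j := fun h => hj (h ▸ hi)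
      obtain ⟨a, ha⟩ := Function.ne_iff.1 (hinj.ne hij)
      have h0 : ∑ k ∈ s, (c k * (χ k a - χ j a)) • v k = 0 := by
        have h1 := congrArg (fun x => M a *ᵥ x - χ j a • x) hc
        rw [Finset.sum_insert hj] at h1
        simp only [Matrix.mulVec_add, Matrix.mulVec_sum, Matrix.mulVec_smul, heig,
          Matrix.mulVec_zero, smul_zero, sub_zero, smul_add, Finset.smul_sum, smul_smul] at h1
        rw [mul_comm (χ j a) (c j), add_sub_add_left_eq_sub, ← Finset.sum_sub_distrib] at h1
        refine Eq.trans (Finset.sum_congr rfl fun k _ => ?_) h1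
        rw [← sub_smul]
        congr 1
        ring
      rcases mul_eq_zero.1 (ih _ h0 i hi) with h | h
      · exact h
      · exact absurd (sub_eq_zero.1 h) ha
    intro i hi
    rcases Finset.mem_insert.1 hi with rfl | hi
    · rw [Finset.sum_insert hj, Finset.sum_eq_zero (fun k hk => by rw [hs k hk, zero_smul]),
        add_zero, smul_eq_zero] at hc
      exact hc.resolve_right (hv i)
    · exact hs i hi

theorem card_le_of_distinct_eigen {ι A : Type*} [Fintype ι]
    (M : A → Matrix (Fin d) (Fin d) L) (χ : ι → A → L) (v : ι → Fin d → L)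
    (hv : ∀ i, v i ≠ 0) (heig : ∀ i a, M a *ᵥ v i = χ i a • v i) (hinj : Function.Injective χ) :
    Fintype.card ι ≤ d := by
  simpa using (linearIndependent_of_distinct_eigen M χ v hv heig hinj).fintype_card_le_finrank

/-- A commuting family has a common eigenvector in every non-zero invariant subspace. -/
theorem exists_common_eigen [IsAlgClosed L] {A : Type*} (f : A → Module.End L (Fin d → L))
    (hcomm : ∀ a b, f a * f b = f b * f a) :
    ∀ (n : ℕ) (W : Submodule L (Fin d → L)), Module.finrank L W = n → W ≠ ⊥ →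
      (∀ a, ∀ x ∈ W, f a x ∈ W) → ∃ v ∈ W, v ≠ 0 ∧ ∀ a, ∃ μ : L, f a v = μ • v := by
  intro n
  induction n using Nat.strong_induction_on with
  | _ n ih =>
    intro W hn hW hinv
    obtain ⟨w, hw, hw0⟩ := Submodule.exists_mem_ne_zero_of_ne_bot hW
    by_cases hs : ∀ a, ∀ x ∈ W, ∃ μ : L, f a x = μ • x
    · exact ⟨w, hw, hw0, fun a => hs a w hw⟩
    · push Not at hs
      obtain ⟨a, x, hx, hax⟩ := hs
      have : Nontrivial W := (Submodule.nontrivial_iff_ne_bot).2 hW
      obtain ⟨μ, hμ⟩ := Module.End.exists_eigenvalue ((f a).restrict (hinv a))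
      obtain ⟨y, hy⟩ := hμ.exists_hasEigenvector
      let W' : Submodule L (Fin d → L) := W ⊓ LinearMap.ker (f a - μ • 1)
      have hlt : W' < W := by
        refine lt_of_le_of_ne inf_le_left fun h => hax μ ?_
        have h2 : x ∈ W' := h ▸ hx
        simpa [W', sub_eq_zero] using h2.2
      have hne : W' ≠ ⊥ := by
        intro h
        have h2 : (y : Fin d → L) ∈ W' := by
          refine ⟨y.2, ?_⟩
          have h3 := congrArg Subtype.val hy.apply_eq_smul
          simpa [sub_eq_zero] using h3
        rw [h, Submodule.mem_bot] at h2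
        exact hy.2 (Subtype.ext h2)
      have hinv' : ∀ b, ∀ z ∈ W', f b z ∈ W' := by
        intro b z hz
        refine ⟨hinv b z hz.1, ?_⟩
        have hz2 : f a z = μ • z := by simpa [sub_eq_zero] using hz.2
        have h3 := LinearMap.congr_fun (hcomm a b) z
        simp only [Module.End.mul_apply] at h3
        simp [h3, hz2, map_smul]
      obtain ⟨v, hv, h⟩ := ih _ (hn ▸ Submodule.finrank_lt_finrank_of_lt hlt) W' rfl hne hinv'
      exact ⟨v, hv.1, h⟩

/-- A non-trivially acting abelian group of exponent `p` has a non-trivial eigencharacter. -/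
theorem exists_character [IsAlgClosed L] {A : Type*} [AddCommGroup A]
    (ρ : Multiplicative A →* GL (Fin d) L) {p : ℕ} (hp : (p : L) ≠ 0)
    (hexp : ∀ a : A, p • a = 0) {a₀ : A} (ha₀ : ρ (Multiplicative.ofAdd a₀) ≠ 1) :
    ∃ (χ : AddChar A L) (v : Fin d → L), v ≠ 0 ∧ χ a₀ ≠ 1 ∧
      ∀ a, (ρ (Multiplicative.ofAdd a) : Matrix (Fin d) (Fin d) L) *ᵥ v = χ a • v := by
  let f : A → Module.End L (Fin d → L) := fun a =>
    Matrix.toLin' (ρ (Multiplicative.ofAdd a) : Matrix (Fin d) (Fin d) L)
  have hmul : ∀ a b, f a * f b = f (a + b) := fun a b => by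
    simp [f, ofAdd_add, map_mul, Matrix.toLin'_mul, Module.End.mul_eq_comp]
  have h0 : f 0 = 1 := by simp [f, Matrix.toLin'_one, Module.End.one_eq_id]
  have hcomm : ∀ a b, f a * f b = f b * f a := fun a b => by rw [hmul, hmul, add_comm]
  obtain ⟨y, hy⟩ : ∃ y, f a₀ y ≠ y := by
    by_contra h
    push Not at h
    refine ha₀ (Units.ext (Matrix.toLin'.injective ?_))
    rw [Units.val_one, Matrix.toLin'_one]
    exact LinearMap.ext h
  let R : Submodule L (Fin d → L) := LinearMap.range (f a₀ - 1)
  have hR : R ≠ ⊥ := fun h => hy (by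
    have h2 : (f a₀ - 1) y ∈ R := LinearMap.mem_range_self _ y
    rw [h, Submodule.mem_bot] at h2
    simpa [sub_eq_zero] using h2)
  have hRinv : ∀ a, ∀ x ∈ R, f a x ∈ R := by
    rintro a x ⟨z, rfl⟩
    refine ⟨f a z, ?_⟩
    have h := LinearMap.congr_fun (hcomm a₀ a) z
    simp only [Module.End.mul_apply] at h
    simp [h, map_sub]
  obtain ⟨v, hvR, hv0, hv⟩ := exists_common_eigen f hcomm _ R rfl hR hRinv
  choose μ hμ using hv
  refine ⟨{ toFun := μ, map_zero_eq_one' := ?_, map_add_eq_mul' := ?_ }, v, hv0, ?_, ?_⟩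
  · apply smul_left_injective L hv0
    show μ 0 • v = (1 : L) • v
    rw [← hμ, h0, one_smul]
    rfl
  · intro a b
    apply smul_left_injective L hv0
    show μ (a + b) • v = (μ a * μ b) • v
    rw [← hμ, ← hmul, Module.End.mul_apply, hμ b, map_smul, hμ a, smul_smul, mul_comm]
  · show μ a₀ ≠ 1
    intro h1
    obtain ⟨z, hz⟩ := hvR
    have hfix : f a₀ v = v := by rw [hμ, h1, one_smul]
    have hz2 : f a₀ z = z + v := by
      rw [← hz]
      simp
    have hk : ∀ k : ℕ, f (k • a₀) z = z + (k : L) • v := by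
      intro k
      induction k with
      | zero => simp [h0]
      | succ k ih =>
        rw [succ_nsmul', ← hmul, Module.End.mul_apply, ih, map_add, map_smul, hfix, hz2,
          Nat.cast_succ, add_smul, one_smul]
        abel
    have h := hk p
    rw [hexp, h0, Module.End.one_apply, left_eq_add, smul_eq_zero] at h
    exact h.elim hp hv0
  · intro a
    have h := hμ a
    simpa [f] using h

/-- The degree bound. -/
theorem card_le_degree {G : Type*} [Group G] {A : Type*} [AddCommGroup A]
    {K : Type*} [Field K] {d : ℕ} (ρ : G →* GL (Fin d) K) (e : Multiplicative A →* G)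
    {p : ℕ} (hp : (p : K) ≠ 0) (hexp : ∀ a : A, p • a = 0)
    {a₀ : A} (ha₀ : ρ (e (Multiplicative.ofAdd a₀)) ≠ 1) (N : ℕ)
    (h : ∀ χ : AddChar A (AlgebraicClosure K), χ a₀ ≠ 1 →
      ∃ (ι : Type) (_ : Fintype ι) (g : ι → G) (τ : ι → A → A), N ≤ Fintype.card ι ∧
        (∀ i a, e (Multiplicative.ofAdd a) * g i = g i * e (Multiplicative.ofAdd (τ i a))) ∧
        Function.Injective fun i a => χ (τ i a)) :
    N ≤ d := by
  let ext : GL (Fin d) K →* GL (Fin d) (AlgebraicClosure K) :=
    Matrix.GeneralLinearGroup.map (algebraMap K (AlgebraicClosure K))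
  have hinj : Function.Injective ext := by
    intro a b hab
    ext i j
    exact (algebraMap K (AlgebraicClosure K)).injective
      (congrArg (fun x : GL (Fin d) (AlgebraicClosure K) =>
        (x : Matrix (Fin d) (Fin d) (AlgebraicClosure K)) i j) hab)
  have hp' : (p : AlgebraicClosure K) ≠ 0 := by
    rw [← map_natCast (algebraMap K (AlgebraicClosure K))]
    exact (_root_.map_ne_zero _).2 hp
  obtain ⟨χ, v, hv0, hχ, hv⟩ := exists_character ((ext.comp ρ).comp e) hp' hexp
    (a₀ := a₀) (fun hh => ha₀ (hinj (by simpa using hh)))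
  obtain ⟨ι, _, g, τ, hN, hg, hinjτ⟩ := h χ hχ
  refine hN.trans (card_le_of_distinct_eigen
    (fun a => (ext (ρ (e (Multiplicative.ofAdd a))) : Matrix (Fin d) (Fin d) _))
    (fun i a => χ (τ i a)) (fun i => (ext (ρ (g i)) : Matrix (Fin d) (Fin d) _) *ᵥ v) ?_ ?_ hinjτ)
  · intro i h0
    have h1 := congrArg (fun x => ((ext (ρ (g i)))⁻¹ : GL (Fin d) _).1 *ᵥ x) h0
    simp only [Matrix.mulVec_mulVec, Units.inv_mul, Matrix.one_mulVec, Matrix.mulVec_zero] at h1
    exact hv0 h1
  · intro i a
    have h1 : (ext (ρ (e (Multiplicative.ofAdd (τ i a)))) : Matrix (Fin d) (Fin d) _) *ᵥ v =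
        χ (τ i a) • v := hv (τ i a)
    simp only [Matrix.mulVec_mulVec, ← Units.val_mul, ← map_mul]
    rw [hg, map_mul, map_mul, Units.val_mul, ← Matrix.mulVec_mulVec, h1, Matrix.mulVec_smul]

/-- The natural number `ringChar F` does not vanish in a field of another characteristic. -/
theorem natCast_ringChar_ne_zero (F K : Type*) [Field F] [Finite F] [Field K]
    (hK : ringChar K ≠ ringChar F) : ((ringChar F : ℕ) : K) ≠ 0 := by
  intro h
  have hp : (ringChar F).Prime := CharP.char_is_prime F (ringChar F)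
  have hdvd : ringChar K ∣ ringChar F := (ringChar.spec K _).1 h
  rcases hp.eq_one_or_self_of_dvd _ hdvd with h1 | h1
  · exact (CharP.ringChar_ne_one (R := K)) h1
  · exact hK h1

end CfsgLib.CrossChar
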